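import Groth.Prelude.Def_HTop3
import Groth.Agent.BlowCompLib.Strict
import Groth.Agent.BlowCompLib.Flat
import Groth.Agent.BlowCompLib.Compose

/-! The closed subscheme of sections supported on a locally principal closed subscheme is the
scheme theoretic closure of the complement; almost blow up squares under base change. -/

set_option autoImplicit false
set_option linter.style.haveILetI false

universe u

open CategoryTheory CategoryTheory.Limits AlgebraicGeometry

noncomputable section

namespace Groth.Agent.AlmostBlowLib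

variable {X Y T : Scheme.{u}}

theorem isLocPrincipal_comap {J : X.IdealSheafData} (hJ : HTop.IsLocPrincipal J) (f : Y ⟶ X) :
    HTop.IsLocPrincipal (J.comap f) := fun y => by
  obtain ⟨U, hU, a, ha⟩ := hJ (f y)
  obtain ⟨V, hy, e⟩ := BlowCompLib.exists_affine_le f y hU
  exact ⟨V, hy, _, BlowCompLib.ideal_comap_span J f ha V e⟩

/-- The closed immersion of the subscheme of supported sections. -/
abbrev supι (J : X.IdealSheafData) : (HTop.supportedOn J).subscheme ⟶ X :=
  (HTop.supportedOn J).subschemeι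

theorem awayFrom_comap (J : X.IdealSheafData) (f : Y ⟶ X) :
    HTop.awayFrom (J.comap f) = f ⁻¹ᵁ HTop.awayFrom J := by
  ext y
  show y ∉ ((J.comap f).support : Set Y) ↔ f y ∉ (J.support : Set X)
  rw [Scheme.IdealSheafData.support_comap]
  rfl

/-- A morphism pulling `J` back to an effective Cartier ideal factors through the subscheme of
sections supported off `J`. -/
theorem supportedOn_le_ker (J : X.IdealSheafData) (t : T ⟶ X)
    (ht : BlowUp.IsEffCartierIdeal (J.comap t)) : HTop.supportedOn J ≤ t.ker := by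
  obtain ⟨haff, hdom⟩ := S1571.result T (J.comap t) ht
  haveI := haff
  haveI := hdom
  let ιT := Scheme.Opens.ι (X := T) (J.comap t).support.compl
  have h1 : (ιT ≫ t).ker = t.ker := by
    rw [Scheme.Hom.ker_comp, ιT.ker_eq_bot, Scheme.IdealSheafData.map_bot]
  rw [← h1, ← IsOpenImmersion.lift_fac (HTop.awayFrom J).ι (ιT ≫ t) (by
    rw [Scheme.Opens.range_ι]
    rintro _ ⟨w, rfl⟩
    have := w.2
    show t (ιT w) ∈ HTop.awayFrom J
    exact (SetLike.ext_iff.mp (awayFrom_comap J t) (ιT w)).mp this)]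
  exact Scheme.Hom.le_ker_comp _ _

theorem exists_factor (J : X.IdealSheafData) (t : T ⟶ X)
    (ht : BlowUp.IsEffCartierIdeal (J.comap t)) :
    ∃ s : T ⟶ (HTop.supportedOn J).subscheme, s ≫ supι J = t :=
  ⟨IsClosedImmersion.lift (supι J) t
    (by rw [Scheme.IdealSheafData.ker_subschemeι]; exact supportedOn_le_ker J t ht),
    IsClosedImmersion.lift_fac _ _ _⟩

/-- On the subscheme of supported sections a locally principal ideal becomes effective Cartier. -/
theorem isEffCartier_supι {J : X.IdealSheafData} (hJ : HTop.IsLocPrincipal J) :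
    BlowUp.IsEffCartierIdeal (J.comap (supι J)) := by
  let κ : (HTop.awayFrom J).toScheme ⟶ X := (HTop.awayFrom J).ι
  haveI : IsAffineHom κ := BlowCompLib.isAffineHom_compl J hJ
  show BlowUp.IsEffCartierIdeal (J.comap κ.imageι)
  refine BlowCompLib.isEffCartier_of_dense _ κ.toImage (isLocPrincipal_comap hJ _) ?_
  rw [← Scheme.IdealSheafData.comap_comp, Scheme.Hom.toImage_imageι,
    BlowCompLib.comap_eq_top J κ (fun w => w.2)]
  exact BlowCompLib.isEffCartier_top

/-- Base change of the blow-up condition of an almost blow up square. -/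
theorem isBlowUp_baseChange {X' X₁ : Scheme.{u}} {b : X' ⟶ X} {g : Y ⟶ X} {b₁ : X₁ ⟶ Y}
    {gX : X₁ ⟶ X'} (hX : IsPullback gX b₁ b g) {I : X.IdealSheafData}
    (hl : HTop.IsLocPrincipal (I.comap b)) (hb : BlowUp.IsBlowUp (supι (I.comap b) ≫ b) I) :
    BlowUp.IsBlowUp (supι ((I.comap g).comap b₁) ≫ b₁) (I.comap g) := by
  set J := I.comap b with hJdef
  set J₁ := (I.comap g).comap b₁ with hJ₁def
  have hJ₁ : J₁ = J.comap gX := by
    rw [hJ₁def, ← Scheme.IdealSheafData.comap_comp, ← hX.w, Scheme.IdealSheafData.comap_comp]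
  have hl₁ : HTop.IsLocPrincipal J₁ := hJ₁ ▸ isLocPrincipal_comap hl gX
  refine ⟨?_, fun T gT hgT => ?_⟩
  · rw [Scheme.IdealSheafData.comap_comp]
    exact isEffCartier_supι hl₁
  · have hT : BlowUp.IsEffCartierIdeal (I.comap (gT ≫ g)) := by
      rwa [Scheme.IdealSheafData.comap_comp]
    obtain ⟨h, hh, hu⟩ := hb.2 T (gT ≫ g) hT
    let k : T ⟶ X₁ := hX.lift (h ≫ supι J) gT (by rw [Category.assoc]; exact hh)
    have hk : BlowUp.IsEffCartierIdeal (J₁.comap k) := by
      rw [hJ₁def, ← Scheme.IdealSheafData.comap_comp, hX.lift_snd]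
      exact hgT
    obtain ⟨s, hs⟩ := exists_factor J₁ k hk
    refine ⟨s, by show s ≫ supι J₁ ≫ b₁ = gT; rw [← Category.assoc, hs, hX.lift_snd],
      fun s' hs' => ?_⟩
    replace hs' : s' ≫ supι J₁ ≫ b₁ = gT := hs'
    rw [← cancel_mono (supι J₁), hs]
    refine hX.hom_ext ?_ ?_
    · rw [hX.lift_fst]
      have e : ((s' ≫ supι J₁) ≫ gX) ≫ b = gT ≫ g := by
        rw [Category.assoc, hX.w, ← Category.assoc, Category.assoc s', hs']
      obtain ⟨v, hv⟩ := exists_factor J ((s' ≫ supι J₁) ≫ gX) (by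
        rw [hJdef, ← Scheme.IdealSheafData.comap_comp, e]
        exact hT)
      have hvh : v = h := hu v (by
        show v ≫ supι J ≫ b = gT ≫ g
        rw [← Category.assoc, hv, e])
      rw [← hv, hvh]
    · rw [hX.lift_snd, Category.assoc]
      exact hs'

theorem isBlowUp_of_iso {S S' : Scheme.{u}} {I : X.IdealSheafData} {b : S ⟶ X} (hb : BlowUp.IsBlowUp b I)
    (α : S' ≅ S) : BlowUp.IsBlowUp (α.hom ≫ b) I := by
  refine ⟨?_, fun T g hg => ?_⟩
  · rw [Scheme.IdealSheafData.comap_comp]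
    exact BlowCompLib.isEffCartier_comap_openImmersion hb.1 α.hom
  · obtain ⟨h, hh, hu⟩ := hb.2 T g hg
    refine ⟨h ≫ α.inv, by simpa using hh, fun h' hh' => ?_⟩
    rw [← hu (h' ≫ α.hom) (by simpa using hh')]
    simp

/-- Replacing the total space by an intermediate closed subscheme. -/
theorem ker_le_supportedOn_iff {W : Scheme.{u}} {b : Y ⟶ X} (w : W ⟶ Y) [IsClosedImmersion w]
    {I : X.IdealSheafData} (hl : HTop.IsLocPrincipal (I.comap b))
    (hb : BlowUp.IsBlowUp (supι (I.comap b) ≫ b) I) :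
    w.ker ≤ HTop.supportedOn (I.comap b) ↔
      BlowUp.IsBlowUp (supι (I.comap (w ≫ b)) ≫ w ≫ b) I := by
  set J := I.comap b with hJdef
  set J' := I.comap (w ≫ b) with hJ'def
  have hJ' : J' = J.comap w := Scheme.IdealSheafData.comap_comp _ _ _
  have hE : BlowUp.IsEffCartierIdeal (J.comap (supι J' ≫ w)) := by
    rw [Scheme.IdealSheafData.comap_comp, ← hJ']
    exact isEffCartier_supι (hJ' ▸ isLocPrincipal_comap hl w)
  obtain ⟨s, hs⟩ := exists_factor J (supι J' ≫ w) hE
  constructor
  · intro hle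
    obtain ⟨r, hr⟩ : ∃ r : (HTop.supportedOn J).subscheme ⟶ W, r ≫ w = supι J :=
      ⟨IsClosedImmersion.lift w (supι J) (by rwa [Scheme.IdealSheafData.ker_subschemeι]),
        IsClosedImmersion.lift_fac _ _ _⟩
    obtain ⟨r', hr'⟩ := exists_factor J' r (by
      rw [hJ', ← Scheme.IdealSheafData.comap_comp, hr]
      exact isEffCartier_supι hl)
    have h1 : s ≫ r' = 𝟙 _ := by
      rw [← cancel_mono (supι J'), ← cancel_mono w]
      simp only [Category.assoc, Category.id_comp]
      rw [← Category.assoc r', hr', hr, hs]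
    have h2 : r' ≫ s = 𝟙 _ := by
      rw [← cancel_mono (supι J), Category.assoc, hs, ← Category.assoc, hr', hr, Category.id_comp]
    have := isBlowUp_of_iso hb (⟨s, r', h1, h2⟩ : _ ≅ _)
    rwa [← Category.assoc, hs, Category.assoc] at this
  · intro hb'
    obtain ⟨β, hβ, -⟩ := hb'.2 _ (supι J ≫ b) hb.1
    obtain ⟨γ, -, hu⟩ := hb.2 _ (supι J ≫ b) hb.1
    have h2 : β ≫ s = 𝟙 _ := by
      rw [hu (β ≫ s) ?_, hu (𝟙 _) (Category.id_comp _)]
      show (β ≫ s) ≫ supι J ≫ b = _
      replace hβ : β ≫ supι J' ≫ w ≫ b = supι J ≫ b := hβ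
      rw [Category.assoc, reassoc_of% hs]
      exact hβ
    have h3 : (β ≫ supι J') ≫ w = supι J := by
      rw [Category.assoc, ← hs, ← Category.assoc, h2, Category.id_comp]
    refine (Scheme.Hom.le_ker_comp (β ≫ supι J') w).trans_eq ?_
    rw [h3]
    exact Scheme.IdealSheafData.ker_subschemeι _

theorem ker_of_isPullback {Z Z₁ : Scheme.{u}} {i : Z ⟶ X} [IsClosedImmersion i] {i₁ : Z₁ ⟶ Y}
    {g : Y ⟶ X} {gZ : Z₁ ⟶ Z} (h : IsPullback gZ i₁ i g) : i₁.ker = i.ker.comap g := by
  rw [← Scheme.IdealSheafData.ker_fst_of_isClosedImmersion i g,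
    ← h.flip.isoPullback_hom_fst, Scheme.Hom.ker_comp_of_isIso]

end Groth.Agent.AlmostBlowLib
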