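import Groth.Prelude.Def_HTop
import Groth.Agent.AlmostBlowLib.Basic
import Groth.Agent.HTopPhRef.Basic
import Groth.Agent.S7468
import Groth.Agent.S4599

/-! Sheaves take cartesian squares of sections on (almost) blow up squares. -/

set_option autoImplicit false
set_option linter.style.haveILetI false

universe w v u

open CategoryTheory CategoryTheory.Limits AlgebraicGeometry Opposite

noncomputable section

namespace Groth.Agent.AlmostBlowLib

/-- The objects of a two-member family. -/
abbrev pairX {C : Type*} [Category C] (A B : C) : WalkingPair → C :=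
  fun k => WalkingPair.casesOn k A B

/-- The arrows of a two-member family. -/
abbrev pairF {C : Type*} [Category C] {A B W : C} (a : A ⟶ W) (b : B ⟶ W) :
    ∀ k, pairX A B k ⟶ W :=
  fun k => WalkingPair.casesOn k a b

/-- The two-member family with members `a` and `b`. -/
abbrev pairCover {A B W : Scheme.{u}} (a : A ⟶ W) (b : B ⟶ W) : PreZeroHypercover.{0} W :=
  ⟨WalkingPair, pairX A B, pairF a b⟩

/-- Two proper morphisms which are jointly surjective form a ph covering. -/
theorem isPhCover_pair {A B W : Scheme.{u}} (a : A ⟶ W) (b : B ⟶ W) [IsProper a] [IsProper b]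
    (h : ∀ w, w ∈ Set.range a ∪ Set.range b) : HTop.IsPhCover (pairCover a b) := by
  refine ⟨fun k => ?_, fun U => ?_⟩
  · cases k
    · exact inferInstanceAs (LocallyOfFiniteType a)
    · exact inferInstanceAs (LocallyOfFiniteType b)
  haveI : IsAffine (U.1 : Scheme.{u}) := U.2
  refine HTopPhRef.PhRefines.exists_standard ?_
  rw [← Category.comp_id U.1.ι]
  refine HTopPhRef.PhRefines.baseChange ?_ _
  refine ⟨A ⨿ B, coprod.desc a b, HTopPhRef.isProper_coprodDesc a b, ⟨fun w => ?_⟩, fun x => ?_⟩
  · rcases h w with ⟨z, rfl⟩ | ⟨z, rfl⟩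
    · exact ⟨coprod.inl (C := Scheme.{u}) z, by rw [← Scheme.Hom.comp_apply, coprod.inl_desc]⟩
    · exact ⟨coprod.inr (C := Scheme.{u}) z, by rw [← Scheme.Hom.comp_apply, coprod.inr_desc]⟩
  · obtain ⟨(z | z), rfl⟩ := (coprodMk A B).surjective x
    · refine ⟨WalkingPair.left, A, coprod.inl, 𝟙 A, inferInstance, ⟨z, (coprodMk_inl _ _ _).symm⟩, ?_⟩
      exact (Category.id_comp _).trans (coprod.inl_desc a b).symm
    · refine ⟨WalkingPair.right, B, coprod.inr, 𝟙 B, inferInstance, ⟨z, (coprodMk_inr _ _ _).symm⟩, ?_⟩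
      exact (Category.id_comp _).trans (coprod.inr_desc a b).symm

theorem ofArrows_pair_mem_ph {A B W : Scheme.{u}} (a : A ⟶ W) (b : B ⟶ W) [IsProper a] [IsProper b]
    (h : ∀ w, w ∈ Set.range a ∪ Set.range b) :
    Presieve.ofArrows (pairX A B) (pairF a b) ∈ HTop.phPrecoverage W :=
  (HTop.presieve₀_mem_phPrecoverage_iff _).2 (isPhCover_pair a b h)

theorem ofArrows_pair_mem_h {A B W : Scheme.{u}} (a : A ⟶ W) (b : B ⟶ W) [IsProper a] [IsProper b]
    [LocallyOfFinitePresentation a] [LocallyOfFinitePresentation b]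
    (h : ∀ w, w ∈ Set.range a ∪ Set.range b) :
    Presieve.ofArrows (pairX A B) (pairF a b) ∈ HTop.hPrecoverage W := by
  refine (HTop.presieve₀_mem_hPrecoverage_iff (pairCover a b)).2 ⟨fun k => ?_, fun U => ?_⟩
  · cases k
    · exact inferInstanceAs (LocallyOfFinitePresentation a)
    · exact inferInstanceAs (LocallyOfFinitePresentation b)
  · obtain ⟨F, hF, hr⟩ := (isPhCover_pair a b h).2 U
    exact ⟨F, S7468.result F hF, hr⟩

theorem pair_mem_over {S : Scheme.{u}} (J : Precoverage Scheme.{u}) {A B W : Over S}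
    (a : A ⟶ W) (b : B ⟶ W)
    (h : Presieve.ofArrows (pairX A.left B.left) (pairF a.left b.left) ∈ J W.left) :
    Sieve.generate (Presieve.ofArrows (pairX A B) (pairF a b)) ∈ J.toGrothendieck.over S W := by
  rw [GrothendieckTopology.mem_over_iff, Sieve.overEquiv_generate]
  refine GrothendieckTopology.superset_covering _ ?_ (Precoverage.generate_mem_toGrothendieck h)
  rw [Sieve.generate_le_iff]
  rintro Y g ⟨k⟩
  cases k
  · exact Sieve.le_generate _ _ _ ⟨A, a, 𝟙 _, ⟨WalkingPair.left⟩, by simp⟩
  · exact Sieve.le_generate _ _ _ ⟨B, b, 𝟙 _, ⟨WalkingPair.right⟩, by simp⟩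

/-- Outside the centre lifts exist uniquely. -/
def OffUnique {X X' : Scheme.{u}} (b : X' ⟶ X) (I : X.IdealSheafData) : Prop :=
  ∀ (T : Scheme.{u}) (g : T ⟶ X), (∀ x, g x ∉ I.support) → ∃! h : T ⟶ X', h ≫ b = g

theorem offUnique_of_isBlowUp {X X' : Scheme.{u}} {b : X' ⟶ X} {I : X.IdealSheafData}
    (hb : BlowUp.IsBlowUp b I) : OffUnique b I := fun T g hg =>
  hb.2 T g (by rw [BlowCompLib.comap_eq_top I g hg]; exact BlowCompLib.isEffCartier_top)

theorem offUnique_of_almost {X X' : Scheme.{u}} {b : X' ⟶ X} {I : X.IdealSheafData}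
    (hb : BlowUp.IsBlowUp (supι (I.comap b) ≫ b) I) : OffUnique b I := by
  intro T g hg
  obtain ⟨h, hh, hu⟩ := offUnique_of_isBlowUp hb T g hg
  refine ⟨h ≫ supι _, by show (h ≫ supι _) ≫ b = g; rw [Category.assoc]; exact hh, fun h' hh' => ?_⟩
  replace hh' : h' ≫ b = g := hh'
  obtain ⟨v, hv⟩ := exists_factor (I.comap b) h' (by
    rw [← Scheme.IdealSheafData.comap_comp, hh', BlowCompLib.comap_eq_top I g hg]
    exact BlowCompLib.isEffCartier_top)
  rw [← hv, hu v (by show v ≫ supι _ ≫ b = g; rw [← Category.assoc, hv, hh'])]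

/-- A sheaf, for a topology in which jointly surjective pairs of morphisms with the property `P`
cover, takes cartesian squares of sections on squares which are isomorphisms off the centre. -/
theorem existsUnique_amalgam {S : Scheme.{u}} (J : Precoverage Scheme.{u})
    (F : Sheaf (J.toGrothendieck.over S) (Type v)) (P : MorphismProperty Scheme.{u})
    [P.IsStableUnderBaseChange]
    (hJ : ∀ {W A B : Scheme.{u}} (a : A ⟶ W) (b : B ⟶ W), P a → P b →
      (∀ w, w ∈ Set.range a ∪ Set.range b) → Presieve.ofArrows (pairX A B) (pairF a b) ∈ J W)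
    {E Z X' X : Over S} (e : E ⟶ X') (π : E ⟶ Z) (b : X' ⟶ X) (i : Z ⟶ X)
    [IsClosedImmersion i.left] (hsq : IsPullback e.left π.left b.left i.left)
    (hi : P i.left) (hb : P b.left) (hd : P (pullback.diagonal b.left))
    (hoff : OffUnique b.left i.left.ker)
    (t : F.obj.obj (op Z)) (s' : F.obj.obj (op X')) (hts : F.obj.map π.op t = F.obj.map e.op s') :
    ∃! s : F.obj.obj (op X), F.obj.map i.op s = t ∧ F.obj.map b.op s = s' := by
  have hsupp : (i.left.ker.support : Set X.left) = Set.range i.left := by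
    rw [Scheme.Hom.support_ker, i.left.isClosedEmbedding.isClosed_range.closure_eq]
  have hbe : ∀ x, b.left x ∈ Set.range i.left → x ∈ Set.range e.left := by
    rintro x ⟨z, hz⟩
    obtain ⟨p, hp, -⟩ := Scheme.exists_preimage_of_isPullback hsq x z hz.symm
    exact ⟨p, hp⟩
  have hw : e ≫ b = π ≫ i := by ext1; exact hsq.w
  -- lifts into `E`
  have hlift : ∀ {W : Over S} (g : W ⟶ X') (z : W ⟶ Z), g ≫ b = z ≫ i →
      F.obj.map g.op s' = F.obj.map z.op t := by
    intro W g z hgz
    have hgz' : g.left ≫ b.left = z.left ≫ i.left := congrArg CommaMorphism.left hgz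
    let c : W ⟶ E := Over.homMk (hsq.lift g.left z.left hgz') (by
      rw [← Over.w e, hsq.lift_fst_assoc]; exact Over.w g)
    have hc1 : c ≫ e = g := by ext1; exact hsq.lift_fst _ _ _
    have hc2 : c ≫ π = z := by ext1; exact hsq.lift_snd _ _ _
    rw [← hc1, ← hc2, op_comp, op_comp, Functor.map_comp_apply, Functor.map_comp_apply, hts]
  have hshf : ∀ {A B W : Over S} (a : A ⟶ W) (c : B ⟶ W), P a.left → P c.left →
      (∀ w, w ∈ Set.range a.left ∪ Set.range c.left) →
      Presieve.IsSheafFor F.obj (Presieve.ofArrows (pairX A B) (pairF a c)) := fun a c ha hc h =>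
    (Presieve.isSheafFor_iff_generate _).2
      ((isSheaf_iff_isSheaf_of_type _ _).1 F.2 _ (pair_mem_over J a c (hJ _ _ ha hc h)))
  have hsep : ∀ {W : Over S} (g₁ g₂ : W ⟶ X'), g₁ ≫ b = g₂ ≫ b →
      F.obj.map g₁.op s' = F.obj.map g₂.op s' := by
    intro W g₁ g₂ hg
    have hg' : g₁.left ≫ b.left = g₂.left ≫ b.left := congrArg CommaMorphism.left hg
    let δ := pullback.lift g₁.left g₂.left hg'
    let q := pullback.fst δ (pullback.diagonal b.left)
    let a := pullback.fst g₁.left e.left
    have hq : P q := MorphismProperty.pullback_fst _ _ hd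
    have ha : P a := MorphismProperty.pullback_fst _ _ (MorphismProperty.of_isPullback hsq.flip hi)
    have hq₁ : q ≫ g₁.left = pullback.snd δ (pullback.diagonal b.left) := by
      simp only [q]
      rw [← pullback.lift_fst g₁.left g₂.left hg', ← Category.assoc, pullback.condition,
        Category.assoc, pullback.diagonal_fst, Category.comp_id]
    have hq₂ : q ≫ g₂.left = pullback.snd δ (pullback.diagonal b.left) := by
      simp only [q]
      rw [← pullback.lift_snd g₁.left g₂.left hg', ← Category.assoc, pullback.condition,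
        Category.assoc, pullback.diagonal_snd, Category.comp_id]
    let A : Over S := Over.mk (a ≫ W.hom)
    let K : Over S := Over.mk (q ≫ W.hom)
    let aA : A ⟶ W := Over.homMk a rfl
    let qK : K ⟶ W := Over.homMk q rfl
    have hcov : ∀ w, w ∈ Set.range a ∪ Set.range q := by
      intro w
      by_cases hx : g₁.left w ∈ Set.range e.left
      · obtain ⟨z, hz⟩ := hx
        obtain ⟨p, hp, -⟩ := Scheme.Pullback.exists_preimage_pullback (f := g₁.left) (g := e.left) w z hz.symm
        exact Or.inl ⟨p, hp⟩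
      · right
        let V : W.left.Opens := (g₁.left ≫ b.left) ⁻¹ᵁ i.left.ker.support.compl
        have hV : ∀ v, (V.ι ≫ g₁.left ≫ b.left) v ∉ i.left.ker.support := fun v => by
          rw [Scheme.Hom.comp_apply]; exact v.2
        obtain ⟨h₀, -, hu⟩ := hoff _ (V.ι ≫ g₁.left ≫ b.left) hV
        have heq : V.ι ≫ g₂.left = V.ι ≫ g₁.left := by
          rw [hu (V.ι ≫ g₁.left) (Category.assoc _ _ _),
            hu (V.ι ≫ g₂.left) (by show (V.ι ≫ g₂.left) ≫ b.left = _; rw [Category.assoc, hg'])]
        have hwV : w ∈ V := by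
          show (g₁.left ≫ b.left) w ∉ (i.left.ker.support : Set X.left)
          rw [hsupp]
          exact fun hh => hx (hbe _ hh)
        refine ⟨pullback.lift (f := δ) V.ι (V.ι ≫ g₁.left) ?_ ⟨w, hwV⟩, ?_⟩
        · apply pullback.hom_ext
          · simp [δ]
            exact congrArg (V.ι ≫ ·) (pullback.lift_fst _ _ _)
          · simp [δ]
            exact (congrArg (V.ι ≫ ·) (pullback.lift_snd _ _ _)).trans heq
        · rw [← Scheme.Hom.comp_apply, pullback.lift_fst]
          rfl
    refine (hshf aA qK ha hq hcov).isSeparatedFor.ext ?_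
    rintro Y f ⟨k⟩
    cases k
    · show F.obj.map aA.op _ = F.obj.map aA.op _
      let aE : A ⟶ E := Over.homMk (pullback.snd g₁.left e.left) (by
        show pullback.snd _ _ ≫ E.hom = a ≫ W.hom
        rw [← Over.w e, ← pullback.condition_assoc, Over.w g₁])
      have h1 : aA ≫ g₁ = aE ≫ e := by ext1; exact pullback.condition
      rw [← Functor.map_comp_apply, ← Functor.map_comp_apply, ← op_comp, ← op_comp,
        hlift (aA ≫ g₁) (aE ≫ π) (by rw [h1, Category.assoc, Category.assoc, hw]),
        hlift (aA ≫ g₂) (aE ≫ π) (by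
          rw [Category.assoc, ← hg, ← Category.assoc, h1, Category.assoc, Category.assoc, hw])]
    · show F.obj.map qK.op _ = F.obj.map qK.op _
      have h1 : qK ≫ g₁ = qK ≫ g₂ := by ext1; exact hq₁.trans hq₂.symm
      rw [← Functor.map_comp_apply, ← Functor.map_comp_apply, ← op_comp, ← op_comp, h1]
  have hcovX : ∀ x, x ∈ Set.range i.left ∪ Set.range b.left := by
    intro x
    by_cases hx : x ∈ Set.range i.left
    · exact Or.inl hx
    · right
      let V : X.left.Opens := i.left.ker.support.compl
      obtain ⟨h₀, hh, -⟩ := hoff _ V.ι (fun v => v.2)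
      have hxV : x ∈ V := by
        show x ∉ (i.left.ker.support : Set X.left)
        rwa [hsupp]
      exact ⟨h₀ ⟨x, hxV⟩, by rw [← Scheme.Hom.comp_apply, hh]; rfl⟩
  have H := Presieve.isSheafFor_arrows_iff (P := F.obj) (X := pairX Z X') (π := pairF i b) |>.1
    (hshf i b hi hb hcovX)
  haveI : Mono i := (Over.forget S).mono_of_mono_map (inferInstanceAs (Mono i.left))
  have hcomp : Presieve.Arrows.Compatible F.obj (pairF i b)
      (fun k => WalkingPair.casesOn k t s') := by
    rintro (_ | _) (_ | _) W gi gj hc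
    · have : gi = gj := (cancel_mono i).1 hc
      subst this
      rfl
    · exact (hlift gj gi hc.symm).symm
    · exact hlift gi gj hc
    · exact hsep gi gj hc
  obtain ⟨s, hs, hu⟩ := H (fun k => WalkingPair.casesOn k t s') hcomp
  · refine ⟨s, ⟨hs WalkingPair.left, hs WalkingPair.right⟩, fun y hy => hu y fun k => ?_⟩
    cases k
    · exact hy.1
    · exact hy.2

end Groth.Agent.AlmostBlowLib
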