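import Groth.Prelude.Def_SGA1
import Groth.Agent.UnivOpenAtLib.Dvr
import Groth.Agent.S9495
import Groth.Agent.HTopV.Basic
import Groth.Agent.AlmostBlowLib.Basic

/-! Universally submersive open parts of blow ups. -/

set_option autoImplicit false
set_option linter.style.haveILetI false

universe u

open CategoryTheory CategoryTheory.Limits AlgebraicGeometry

noncomputable section

namespace Groth.Agent.AlmostBlowLib

/-- Over a discrete valuation ring, a universally submersive morphism lifts the specialization. -/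
theorem exists_lift_specializes {P : Scheme.{u}} (A : Type u) [CommRing A] [IsDomain A]
    [IsDiscreteValuationRing A] (p : P ⟶ Spec (CommRingCat.of A)) (H : Topology.IsQuotientMap p.base) :
    ∃ z' z : P, z' ⤳ z ∧ p z' ≠ IsLocalRing.closedPoint A ∧ p z = IsLocalRing.closedPoint A := by
  obtain ⟨ϖ, hϖ⟩ := IsDiscreteValuationRing.exists_irreducible A
  set O : (Spec (CommRingCat.of A)).Opens := PrimeSpectrum.basicOpen ϖ with hOdef
  have hO : ∀ q : Spec (CommRingCat.of A), q ∈ O ↔ q ≠ IsLocalRing.closedPoint A := by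
    intro q
    show ϖ ∉ PrimeSpectrum.asIdeal (R := A) q ↔ _
    constructor
    · rintro h rfl
      refine h ?_
      show ϖ ∈ IsLocalRing.maximalIdeal A
      rw [hϖ.maximalIdeal_eq]
      exact Ideal.mem_span_singleton_self ϖ
    · intro hq' hmem
      apply hq'
      apply PrimeSpectrum.ext
      show PrimeSpectrum.asIdeal (R := A) q = IsLocalRing.maximalIdeal A
      refine le_antisymm (IsLocalRing.le_maximalIdeal (PrimeSpectrum.isPrime (R := A) q).ne_top) ?_
      rw [hϖ.maximalIdeal_eq]
      exact (Ideal.span_singleton_le_iff_mem _).2 hmem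
  have hOc : ¬ IsClosed (O : Set (Spec (CommRingCat.of A))) := by
    intro hc
    let q₀ : Spec (CommRingCat.of A) := (⟨⊥, Ideal.isPrime_bot⟩ : PrimeSpectrum A)
    have h0 : q₀ ∈ O := (hO q₀).2 fun h =>
      IsDiscreteValuationRing.not_a_field A (congrArg PrimeSpectrum.asIdeal h).symm
    exact (hO _).1 ((IsLocalRing.specializes_closedPoint (R := A) q₀).mem_closed hc h0) rfl
  haveI : IsAffine (O : Scheme.{u}) := IsAffineOpen.Spec_basicOpen (R := CommRingCat.of A) ϖ
  haveI : QuasiCompact (p ⁻¹ᵁ O).ι :=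
    MorphismProperty.of_isPullback (P := @QuasiCompact) (isPullback_morphismRestrict p O) inferInstance
  by_contra hcon
  push_neg at hcon
  refine hOc (H.isCoinducing.isClosed_preimage.1 ?_)
  have hr := (S9495.result (p ⁻¹ᵁ O).ι).2 (by
    rw [Scheme.Opens.range_ι]
    exact fun a b hab ha => (hO _).2 (hcon a b hab ((hO _).1 ha)))
  rwa [Scheme.Opens.range_ι] at hr

/-- On an integral scheme a locally principal ideal whose support misses some point is effective Cartier. -/
theorem isEffCartier_of_notMem {W : Scheme.{u}} [IsIntegral W] {K : W.IdealSheafData}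
    (hK : HTop.IsLocPrincipal K) (q : W) (hq : q ∉ K.support) : BlowUp.IsEffCartierIdeal K := by
  intro x
  obtain ⟨V, hxV, a, ha⟩ := hK x
  haveI : Nonempty V.1 := ⟨⟨x, hxV⟩⟩
  refine ⟨V, hxV, a, mem_nonZeroDivisors_of_ne_zero ?_, ha⟩
  rintro rfl
  have hη : genericPoint W ∈ V.1 :=
    (genericPoint_spec W).mem_open_set_iff V.1.2 |>.mpr ⟨x, trivial, hxV⟩
  apply hq
  have hs : genericPoint W ∈ K.support := by
    rw [Scheme.IdealSheafData.mem_support_iff_of_mem hη, ha, Ideal.span_singleton_eq_bot.2 rfl]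
    simp
  exact ((genericPoint_spec W).specializes trivial).mem_closed K.support.isClosed hs

/-- An open part of a blow up which is universally submersive over the base is everything. -/
theorem eq_top_of_univSubmersive {X X' : Scheme.{u}} [IsNoetherian X] {I : X.IdealSheafData}
    {b : X' ⟶ X} [LocallyOfFiniteType b] (hb : BlowUp.IsBlowUp b I) {U : X'.Opens}
    (hU : SGA1.UnivSubmersive (U.ι ≫ b)) : U = ⊤ := by
  refine eq_top_iff.2 fun x' _ => ?_
  have key : ∀ (W : Scheme.{u}) (l : W ⟶ U) (g : W ⟶ X') (q : W), l ≫ U.ι ≫ b = g ≫ b →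
      BlowUp.IsEffCartierIdeal (I.comap (g ≫ b)) → g q ∈ U := by
    intro W l g q e h
    obtain ⟨k, -, hk⟩ := hb.2 W (g ≫ b) h
    have : g = l ≫ U.ι := by rw [hk g rfl, hk (l ≫ U.ι) ((Category.assoc _ _ _).trans e)]
    rw [this, Scheme.Hom.comp_apply]
    exact (l q).2
  have hq : ∀ {Y' : Scheme.{u}} (g : Y' ⟶ X),
      Topology.IsQuotientMap (pullback.snd (U.ι ≫ b) g).base := fun g =>
    hU _ _ _ (IsPullback.of_hasPullback (U.ι ≫ b) g).flip
  by_cases hx : x' ∈ (I.comap b).support
  · obtain ⟨V, hxV, a, ha, hVa⟩ := hb.1 x'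
    obtain ⟨m, hm⟩ : x' ∈ Set.range V.2.fromSpec.base := by rw [V.2.range_fromSpec]; exact hxV
    obtain ⟨p, hp, hpm⟩ := Ideal.exists_minimalPrimes_le (I := (⊥ : Ideal Γ(X', V.1)))
      (J := m.asIdeal) bot_le
    haveI := hp.1.1
    have hap : a ∉ p := fun h =>
      Set.disjoint_left.1 (Ideal.disjoint_nonZeroDivisors_of_mem_minimalPrimes hp) h ha
    let η' : X' := V.2.fromSpec.base ⟨p, hp.1.1⟩
    have hη : η' ⤳ x' := hm ▸ ((PrimeSpectrum.le_iff_specializes
      (⟨p, hp.1.1⟩ : PrimeSpectrum Γ(X', V.1)) m).1 hpm).map V.2.fromSpec.continuous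
    have hηs : η' ∉ (I.comap b).support := by
      intro h
      have hηV : η' ∈ V.1 := by
        show η' ∈ (V.1 : Set X')
        rw [← V.2.range_fromSpec]
        exact ⟨_, rfl⟩
      rw [Scheme.IdealSheafData.mem_support_iff_of_mem hηV, hVa, Scheme.zeroLocus_span] at h
      exact hap ((Set.ext_iff.1 (V.2.fromSpec_preimage_zeroLocus {a}) ⟨p, hp.1.1⟩).1 h rfl)
    haveI : IsLocallyNoetherian X' := LocallyOfFiniteType.isLocallyNoetherian b
    obtain ⟨A, _, _, _, g, hgc, hgo⟩ :=
      UnivOpenAtLib.exists_dvr_specialization hη (fun h => hηs (h.symm ▸ hx))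
    obtain ⟨z', z, hzz, hz', hz⟩ := exists_lift_specializes A _ (hq (g ≫ b))
    obtain ⟨W, hd, hv, l, hl, hl'⟩ := HTopV.exists_valuationRing_of_specializes hzz
    set g' := l ≫ pullback.snd (U.ι ≫ b) (g ≫ b) ≫ g with hg'
    have he : (l ≫ pullback.fst (U.ι ≫ b) (g ≫ b)) ≫ U.ι ≫ b = g' ≫ b := by
      simp only [hg', Category.assoc]
      rw [pullback.condition]
    have hgz : g' (HTopV.genPt W) = η' := by
      simp only [hg', Scheme.Hom.comp_apply, hl']
      exact hgo _ hz'
    have hgz' : g' (IsLocalRing.closedPoint W) = x' := by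
      simp only [hg', Scheme.Hom.comp_apply, hl, hz]
      exact hgc
    rw [← hgz']
    refine key _ _ g' _ he ?_
    rw [Scheme.IdealSheafData.comap_comp]
    refine isEffCartier_of_notMem ?_ (HTopV.genPt W) ?_
    · refine isLocPrincipal_comap (fun y => ?_) _
      obtain ⟨V, hy, c, -, hc⟩ := hb.1 y
      exact ⟨V, hy, c, hc⟩
    · rw [Scheme.IdealSheafData.support_comap]
      show g' (HTopV.genPt W) ∉ (I.comap b).support
      rw [hgz]; exact hηs
  · let O : X'.Opens := (I.comap b).support.compl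
    obtain ⟨z, hz⟩ := (hq (O.ι ≫ b)).surjective ⟨x', hx⟩
    have hmem : (pullback.snd (U.ι ≫ b) (O.ι ≫ b) ≫ O.ι) z = x' := by
      rw [Scheme.Hom.comp_apply]
      exact congrArg O.ι hz
    rw [← hmem]
    refine key _ (pullback.fst (U.ι ≫ b) (O.ι ≫ b)) _ z ?_ ?_
    · rw [Category.assoc, pullback.condition]
    · rw [BlowCompLib.comap_eq_top I _ fun y => ?_]
      · exact BlowCompLib.isEffCartier_top
      · have := (pullback.snd (U.ι ≫ b) (O.ι ≫ b) y).2
        change _ ∉ ((I.comap b).support : Set X') at this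
        rw [Scheme.IdealSheafData.support_comap] at this
        exact this

end Groth.Agent.AlmostBlowLib
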